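import Groth.Agent.Lib.FlatDepth.CM
import Groth.Agent.Lib.FlatDepth.RkFlat
import Groth.Agent.Lib.CI2.SyntScheme
import Groth.Agent.S2086
import Groth.Agent.S9142
import Groth.Agent.S9437
import Mathlib.AlgebraicGeometry.Noetherian
import Mathlib.AlgebraicGeometry.Morphisms.UnderlyingMap
import Mathlib.AlgebraicGeometry.Morphisms.Flat

/-!
# Serre's conditions on schemes and syntomic morphisms
-/

set_option autoImplicit false
set_option linter.style.haveILetI false
set_option backward.isDefEq.respectTransparency.types false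
universe u

open CategoryTheory AlgebraicGeometry TopologicalSpace
open Groth.Agent.FlatDepth

namespace Groth.Agent.SkScheme12

/-- Serre's condition passes to localizations at primes. -/
theorem hasSk_atPrime {k : ℕ} {R : Type u} [CommRing R] (h : LocCoh.HasSk k R R) (p : Ideal R) [p.IsPrime]
    (L : Type u) [CommRing L] [Algebra R L] [IsLocalization.AtPrime L p] : LocCoh.HasSk k L L := by
  rw [hasSk_self_iff] at h ⊢
  intro Q _
  haveI : IsLocalization.AtPrime (Localization.AtPrime Q) (Q.comap (algebraMap R L)) :=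
    IsLocalization.isLocalization_isLocalization_atPrime_isLocalization p.primeCompl (Localization.AtPrime Q) Q
  exact (h (Q.comap (algebraMap R L))).congr
    (IsLocalization.algEquiv (Q.comap (algebraMap R L)).primeCompl _ _).toRingEquiv

/-- The scheme satisfies the inequality of `(S_k)` at every point. -/
def SkPts (k : ℕ) (X : Scheme.{u}) : Prop := ∀ x : X, SkIneq k (X.presheaf.stalk x)

theorem hasSk_of_skPts {k : ℕ} {X : Scheme.{u}} (h : SkPts k X) {U : X.Opens} (hU : IsAffineOpen U) :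
    LocCoh.HasSk k Γ(X, U) Γ(X, U) := by
  rw [hasSk_self_iff]
  intro q hq
  have hy : hU.fromSpec ⟨q, hq⟩ ∈ U := hU.range_fromSpec.le ⟨_, rfl⟩
  letI := TopCat.Presheaf.algebra_section_stalk X.presheaf (⟨_, hy⟩ : U)
  haveI : IsLocalization.AtPrime (X.presheaf.stalk (hU.fromSpec ⟨q, hq⟩)) q :=
    hU.isLocalization_stalk' ⟨q, hq⟩ hy
  exact (h (hU.fromSpec ⟨q, hq⟩)).congr
    (IsLocalization.algEquiv q.primeCompl (X.presheaf.stalk (hU.fromSpec ⟨q, hq⟩)) (Localization.AtPrime q)).toRingEquiv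

theorem hasSk_stalk {k : ℕ} {X : Scheme.{u}} {U : X.Opens} (hU : IsAffineOpen U)
    (h : LocCoh.HasSk k Γ(X, U) Γ(X, U)) (x : X) (hx : x ∈ U) :
    LocCoh.HasSk k (X.presheaf.stalk x) (X.presheaf.stalk x) := by
  letI := TopCat.Presheaf.algebra_section_stalk X.presheaf (⟨x, hx⟩ : U)
  haveI := hU.isLocalization_stalk ⟨x, hx⟩
  exact hasSk_atPrime h (hU.primeIdealOf ⟨x, hx⟩).asIdeal _

theorem skPts_iff (k : ℕ) (X : Scheme.{u}) :
    SkPts k X ↔ ∀ x : X, LocCoh.HasSk k (X.presheaf.stalk x) (X.presheaf.stalk x) := by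
  refine ⟨fun h x => ?_, fun h x => skIneq_self (h x)⟩
  obtain ⟨U, hU, hx, -⟩ := exists_isAffineOpen_mem_and_subset (X := X) (x := x) (U := ⊤) trivial
  exact hasSk_stalk hU (hasSk_of_skPts h hU) x hx

theorem ascend {k : ℕ} {X S : Scheme.{u}} (f : X ⟶ S) (hf : Synt.IsSyntomicMor f) [IsLocallyNoetherian S]
    (h : SkPts k S) : IsLocallyNoetherian X ∧ SkPts k X := by
  haveI : LocallyOfFiniteType f := by
    rw [HasRingHomProperty.iff_appLE (P := @LocallyOfFiniteType)]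
    intro V U e
    exact RingHom.FiniteType.of_finitePresentation
      ((CI2.isSyntomicMor_iff_appLE f).1 hf V U e).2.1
  haveI := LocallyOfFiniteType.isLocallyNoetherian f
  refine ⟨inferInstance, fun x => skIneq_self ?_⟩
  obtain ⟨V, hV, hxV, -⟩ := exists_isAffineOpen_mem_and_subset (X := S) (x := f x) (U := ⊤) trivial
  obtain ⟨U, hU, hxU, hle⟩ := exists_isAffineOpen_mem_and_subset (X := X) (x := x) (U := f ⁻¹ᵁ V) hxV
  letI := (f.appLE V U hle).hom.toAlgebra
  have hs : Synt.IsSyntomic Γ(S, V) Γ(X, U) := (CI2.isSyntomicMor_iff_appLE f).1 hf ⟨V, hV⟩ ⟨U, hU⟩ hle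
  haveI : IsNoetherianRing Γ(S, V) := IsLocallyNoetherian.component_noetherian ⟨V, hV⟩
  haveI : IsNoetherianRing Γ(X, U) := IsLocallyNoetherian.component_noetherian ⟨U, hU⟩
  haveI := hs.1
  refine hasSk_stalk hU (Groth.Agent.S2086.result (R := Γ(S, V)) k (hasSk_of_skPts h hV) fun p hp => ?_) x hxU
  haveI := isNoetherianRing_fiber (B := Γ(X, U)) p
  exact (cohenMacaulayRing_iff _).1 (Groth.Agent.S9142.result _ _ (hs.2.2 ⟨p, hp⟩)) k

theorem descend {k : ℕ} {X S : Scheme.{u}} (f : X ⟶ S) (hf : Synt.IsSyntomicMor f) [IsLocallyNoetherian X]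
    (h : SkPts k X) (x : X) :
    ∃ V : S.Opens, IsAffineOpen V ∧ f x ∈ V ∧ IsNoetherianRing Γ(S, V) ∧ LocCoh.HasSk k Γ(S, V) Γ(S, V) := by
  have hap := (CI2.isSyntomicMor_iff_appLE f).1 hf
  haveI : Flat f := by
    rw [HasRingHomProperty.iff_appLE (P := @Flat)]
    exact fun V U e => (hap V U e).1
  haveI : LocallyOfFinitePresentation f := by
    rw [HasRingHomProperty.iff_appLE (P := @LocallyOfFinitePresentation)]
    exact fun V U e => (hap V U e).2.1
  obtain ⟨V, hV, hxV, -⟩ := exists_isAffineOpen_mem_and_subset (X := S) (x := f x) (U := ⊤) trivial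
  obtain ⟨U, hU, hxU, hle⟩ := exists_isAffineOpen_mem_and_subset (X := X) (x := x) (U := f ⁻¹ᵁ V) hxV
  obtain ⟨W, hW, hxW, hWU⟩ := exists_isAffineOpen_mem_and_subset (X := S) (x := f x)
    (U := ⟨f '' (U : Set X), f.isOpenMap _ U.2⟩ ⊓ V) ⟨⟨x, hxU, rfl⟩, hxV⟩
  obtain ⟨g, hgW, hxg⟩ := hV.exists_basicOpen_le (V := W) ⟨f x, hxW⟩ hxV
  refine ⟨S.basicOpen g, hV.basicOpen g, hxg, ?_⟩
  let g' := (f.appLE V U hle).hom g
  have hg' : X.basicOpen g' = U ⊓ f ⁻¹ᵁ S.basicOpen g := by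
    show X.basicOpen ((X.presheaf.map (homOfLE hle).op).hom (f.app V g)) = _
    rw [Scheme.basicOpen_res, Scheme.preimage_basicOpen]
  have e' : X.basicOpen g' ≤ f ⁻¹ᵁ S.basicOpen g := hg'.le.trans inf_le_right
  letI := (f.appLE (S.basicOpen g) (X.basicOpen g') e').hom.toAlgebra
  have hU' := hU.basicOpen g'
  haveI : Module.Flat Γ(S, S.basicOpen g) Γ(X, X.basicOpen g') :=
    (hap ⟨_, hV.basicOpen g⟩ ⟨_, hU'⟩ e').1
  haveI : Module.FaithfullyFlat Γ(S, S.basicOpen g) Γ(X, X.basicOpen g') := by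
    refine .of_comap_surjective fun p => ?_
    have hp : (hV.basicOpen g).fromSpec p ∈ S.basicOpen g := (hV.basicOpen g).range_fromSpec.le ⟨p, rfl⟩
    obtain ⟨z, hzU, hz⟩ := (hWU (hgW hp)).1
    have hz' : z ∈ X.basicOpen g' := hg'.ge ⟨hzU, show f z ∈ S.basicOpen g from hz.symm ▸ hp⟩
    refine ⟨hU'.primeIdealOf ⟨z, hz'⟩, (hV.basicOpen g).fromSpec.isOpenEmbedding.injective ?_⟩
    rw [← hz]
    show (hV.basicOpen g).fromSpec (Spec.map (f.appLE (S.basicOpen g) (X.basicOpen g') e') _) = _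
    rw [← Scheme.Hom.comp_apply, IsAffineOpen.SpecMap_appLE_fromSpec f (hV.basicOpen g) hU' e',
      Scheme.Hom.comp_apply, hU'.fromSpec_primeIdealOf]
  haveI : IsNoetherianRing Γ(X, X.basicOpen g') := IsLocallyNoetherian.component_noetherian ⟨_, hU'⟩
  exact Groth.Agent.S9437.result k Γ(S, S.basicOpen g) Γ(X, X.basicOpen g') (hasSk_of_skPts h hU')

/-- `S_k` is local in the syntomic topology, pointwise form. -/
theorem skPts_iff_cover {k : ℕ} {ι : Type u} {S : Scheme.{u}} {X : ι → Scheme.{u}} (f : ∀ i, X i ⟶ S)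
    (hsurj : ∀ s : S, ∃ i, s ∈ Set.range (f i).base) (hsyn : ∀ i, Synt.IsSyntomicMor (f i)) :
    (IsLocallyNoetherian S ∧ SkPts k S) ↔ ∀ i, IsLocallyNoetherian (X i) ∧ SkPts k (X i) := by
  refine ⟨fun h i => haveI := h.1; ascend (f i) (hsyn i) h.2, fun h => ?_⟩
  have key : ∀ s : S, ∃ V : S.Opens, IsAffineOpen V ∧ s ∈ V ∧ IsNoetherianRing Γ(S, V) ∧
      LocCoh.HasSk k Γ(S, V) Γ(S, V) := fun s => by
    obtain ⟨i, x, rfl⟩ := hsurj s
    haveI := (h i).1
    exact descend (f i) (hsyn i) (h i).2 x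
  choose V hV hsV hN hk using key
  refine ⟨isLocallyNoetherian_of_affine_cover (S := fun s => ⟨V s, hV s⟩)
    (eq_top_iff.2 fun s _ => Opens.mem_iSup.2 ⟨s, hsV s⟩) hN, fun s => skIneq_self (hasSk_stalk (hV s) (hk s) s (hsV s))⟩

end Groth.Agent.SkScheme12
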